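import Groth.Prelude.Def_CoactBr
import Groth.Prelude.Def_GLin5
import Groth.Agent.MTBridge.EtaleConj
import Groth.Agent.MTBridge.ExtCentral
import Mathlib

/-!
# Affine points of the general linear group and of its base change as matrices
-/

set_option autoImplicit false
set_option linter.style.haveILetI false
set_option backward.isDefEq.respectTransparency.types false
set_option synthInstance.maxHeartbeats 400000

universe u

open CategoryTheory Limits MonoidalCategory CartesianMonoidalCategory AlgebraicGeometry TensorProduct WithConv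
open scoped CategoryTheory.Obj MonObj GrpObj

noncomputable section

namespace Groth.Agent.DualCyc

open CoactBr CoordGrp Groth.Agent

variable {k : Type u} [CommRing k] {m : ℕ}

/-- The general linear group. -/
abbrev Gk (k : Type u) [CommRing k] (m : ℕ) : Over (Spec (CommRingCat.of k)) := sp k (GLn m k)

/-- The algebra map of a point. -/
def toAlg {A : Type u} [CommRing A] [Bialgebra k A] {B : Type u} [CommRing B] [Algebra k B]
    (x : sp k B ⟶ sp k A) : A →ₐ[k] B :=
  ((Spec.mapMulEquiv (R := k) (S := A) (T := B)).symm x).ofConv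

theorem pt_toAlg {A : Type u} [CommRing A] [Bialgebra k A] {B : Type u} [CommRing B] [Algebra k B]
    (x : sp k B ⟶ sp k A) : pt (toAlg x) = x :=
  (Spec.mapMulEquiv (R := k) (S := A) (T := B)).apply_symm_apply x

theorem toAlg_pt {A : Type u} [CommRing A] [Bialgebra k A] {B : Type u} [CommRing B] [Algebra k B]
    (φ : A →ₐ[k] B) : toAlg (pt φ) = φ :=
  pt_injective (pt_toAlg (pt φ))

/-- The matrix of a map out of the coordinate ring. -/
def algMat {B : Type u} [CommRing B] [Algebra k B] (φ : GLn m k →ₐ[k] B) : Matrix (Fin m) (Fin m) B :=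
  fun i j => φ (GLn.X i j)

theorem det_algMat {B : Type u} [CommRing B] [Algebra k B] (φ : GLn m k →ₐ[k] B) :
    (algMat φ).det * φ GLn.Dinv = 1 := by
  have h : φ GLn.det = (algMat φ).det := by
    show φ (GLn.mk m k (GLb.genMat m k).det) = _
    rw [AlgHom.map_det, AlgHom.map_det]
    rfl
  rw [← h, ← map_mul, GLn.det_mul_Dinv, map_one]

theorem algMat_injective {B : Type u} [CommRing B] [Algebra k B] {φ ψ : GLn m k →ₐ[k] B}
    (h : algMat φ = algMat ψ) : φ = ψ :=
  GLn.algHom_ext (fun i j => congrFun (congrFun h i) j)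
    (left_inv_eq_right_inv (by rw [mul_comm]; exact det_algMat φ) (h ▸ det_algMat ψ))

theorem gln_induction {S : Subalgebra k (GLn m k)} (hX : ∀ i j, GLn.X i j ∈ S) (hD : GLn.Dinv ∈ S) : S = ⊤ := by
  refine eq_top_iff.2 fun x _ => ?_
  obtain ⟨p, rfl⟩ := Ideal.Quotient.mkₐ_surjective k (GLb.relIdeal m k) x
  show GLn.mk m k p ∈ S
  let q : MvPolynomial (GLPoly.Idx m) k := p
  show GLn.mk m k (q : GLb m k) ∈ S
  induction q using MvPolynomial.induction_on with
  | C a => exact (GLn.mk m k).commutes a ▸ S.algebraMap_mem a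
  | add a b ha hb => exact (map_add (GLn.mk m k) (a : GLb m k) (b : GLb m k)).symm ▸ S.add_mem ha hb
  | mul_X a v ha =>
    refine (map_mul (GLn.mk m k) (a : GLb m k) (MvPolynomial.X v : MvPolynomial (GLPoly.Idx m) k)).symm ▸ S.mul_mem ha ?_
    rcases v with ⟨i, j⟩ | u
    · exact hX i j
    · exact hD

/-- Points as matrices. -/
def mat {B : Type u} [CommRing B] [Algebra k B] (x : sp k B ⟶ Gk k m) : Matrix (Fin m) (Fin m) B :=
  algMat (toAlg x)

theorem mat_pt {B : Type u} [CommRing B] [Algebra k B] (φ : GLn m k →ₐ[k] B) : mat (pt φ) = algMat φ := by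
  rw [mat, toAlg_pt]

theorem mat_mul {B : Type u} [CommRing B] [Algebra k B] (x y : sp k B ⟶ Gk k m) :
    mat (x * y) = mat x * mat y := by
  ext i j
  show ((Spec.mapMulEquiv (R := k) (S := GLn m k) (T := B)).symm (x * y)) (GLn.X i j) = _
  rw [map_mul, AlgHom.convMul_apply]
  show Algebra.TensorProduct.lift (toAlg x) (toAlg y) _
    (CoalgebraStruct.comul (R := k) (GLn.mk m k (GLb.X i j))) = _
  rw [GLn.comul_mk, GLb.comul_X, map_sum, map_sum, Matrix.mul_apply]
  refine Finset.sum_congr rfl fun l _ => ?_
  simp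
  rfl

theorem mat_injective {B : Type u} [CommRing B] [Algebra k B] {x y : sp k B ⟶ Gk k m} (h : mat x = mat y) :
    x = y := by
  rw [← pt_toAlg x, ← pt_toAlg y, algMat_injective h]

theorem mat_comp {B C : Type u} [CommRing B] [Algebra k B] [CommRing C] [Algebra k C] (h : B →ₐ[k] C)
    (x : sp k B ⟶ Gk k m) : mat (pt h ≫ x) = (mat x).map h := by
  conv_lhs => rw [← pt_toAlg x, ← pt_comp, mat_pt]
  rfl

/-- Points as invertible matrices. -/
def matHom {B : Type u} [CommRing B] [Algebra k B] :
    (sp k B ⟶ Gk k m) →* Matrix.GeneralLinearGroup (Fin m) B :=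
  MonoidHom.toHomUnits
    { toFun := mat
      map_one' := by
        have h := mat_mul (1 : sp k B ⟶ Gk k m) 1
        rw [one_mul] at h
        have hu : IsUnit (mat (1 : sp k B ⟶ Gk k m)) :=
          (Matrix.isUnit_iff_isUnit_det _).2 (IsUnit.of_mul_eq_one _ (det_algMat _))
        exact hu.mul_left_cancel (h.symm.trans (mul_one _).symm)
      map_mul' := mat_mul }

theorem coe_matHom {B : Type u} [CommRing B] [Algebra k B] (x : sp k B ⟶ Gk k m) :
    (matHom x : Matrix (Fin m) (Fin m) B) = mat x := rfl

theorem matHom_injective {B : Type u} [CommRing B] [Algebra k B] :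
    Function.Injective (matHom (k := k) (m := m) (B := B)) :=
  fun _ _ h => mat_injective (congrArg (fun M : Matrix.GeneralLinearGroup (Fin m) B => (M : Matrix (Fin m) (Fin m) B)) h)

theorem exists_matHom_eq {B : Type u} [CommRing B] [Algebra k B] (g : Matrix.GeneralLinearGroup (Fin m) B) :
    ∃ x : sp k B ⟶ Gk k m, matHom x = g := by
  have h : (g : Matrix (Fin m) (Fin m) B).det * ((g⁻¹ : Matrix.GeneralLinearGroup (Fin m) B) : Matrix (Fin m) (Fin m) B).det = 1 := by
    rw [← Matrix.det_mul, ← Units.val_mul, mul_inv_cancel, Units.val_one, Matrix.det_one]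
  refine ⟨pt (CoordGrp.GLn.pt m k (g : Matrix (Fin m) (Fin m) B) _ h), Units.ext ?_⟩
  rw [coe_matHom, mat_pt]
  ext i j
  exact CoordGrp.GLn.pt_X _ _ _ i j

/-- A homomorphism out of the spectrum of a bialgebra is given by a corepresentation. -/
theorem mat_corep {H : Type u} [CommRing H] [HopfAlgebra k H]
    {C : Type u} [CommRing C] [Algebra k C] (u : sp k H ⟶ Gk k m) [IsMonHom u] (p q : H →ₐ[k] C) :
    (mat u).map (toConv p * toConv q : WithConv (H →ₐ[k] C)).ofConv = (mat u).map p * (mat u).map q := by
  rw [← mat_comp, ← mat_comp, ← mat_comp, ← mat_mul, ← MonObj.mul_comp]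
  congr 2
  exact map_mul (Spec.mapMulEquiv (R := k) (S := H) (T := C)) (toConv p) (toConv q)

theorem mat_counit {H : Type u} [CommRing H] [HopfAlgebra k H] (u : sp k H ⟶ Gk k m) [IsMonHom u] :
    (mat u).map (Bialgebra.counitAlgHom k H) = 1 := by
  rw [← mat_comp, ← coe_matHom, show pt (Bialgebra.counitAlgHom k H) = (1 : sp k k ⟶ sp k H) from ?_,
    MonObj.one_comp, map_one, Units.val_one]
  exact (congrArg pt (AlgHom.ext fun x => by simp)).trans (map_one (Spec.mapMulEquiv (R := k) (S := H) (T := k)))

section BC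

variable {K : Type u} [CommRing K] [Algebra k K]

/-- The map of bases. -/
abbrev base (k K : Type u) [CommRing k] [CommRing K] [Algebra k K] :
    Spec (CommRingCat.of K) ⟶ Spec (CommRingCat.of k) :=
  Spec.map (CommRingCat.ofHom (algebraMap k K))

variable {B : Type u} [CommRing B] [Algebra k B] [Algebra K B] [IsScalarTower k K B]

/-- An affine scheme over the new base seen over the old one. -/
def mapIso (k K B : Type u) [CommRing k] [CommRing K] [Algebra k K] [CommRing B] [Algebra k B] [Algebra K B]
    [IsScalarTower k K B] : (Over.map (base k K)).obj (sp K B) ≅ sp k B :=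
  Over.isoMk (Iso.refl _) (by
    show 𝟙 _ ≫ Spec.map (CommRingCat.ofHom (algebraMap k B)) =
      Spec.map (CommRingCat.ofHom (algebraMap K B)) ≫ Spec.map (CommRingCat.ofHom (algebraMap k K))
    rw [Category.id_comp, ← Spec.map_comp, ← CommRingCat.ofHom_comp, ← IsScalarTower.algebraMap_eq])

/-- The point of the base change given by a point over the old base. -/
def raise {G : Over (Spec (CommRingCat.of k))} (a : sp k B ⟶ G) : sp K B ⟶ Red.bc (base k K) G :=
  MTBridge.toBC (base k K) ((mapIso k K B).hom ≫ a)

/-- The point over the old base given by a point of the base change. -/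
def lower {G : Over (Spec (CommRingCat.of k))} (x : sp K B ⟶ Red.bc (base k K) G) : sp k B ⟶ G :=
  (mapIso k K B).inv ≫ ((Over.mapPullbackAdj (base k K)).homEquiv _ _).symm x

theorem lower_raise {G : Over (Spec (CommRingCat.of k))} (a : sp k B ⟶ G) :
    lower (raise (K := K) a) = a := by
  rw [lower, raise, MTBridge.toBC, Equiv.symm_apply_apply, Iso.inv_hom_id_assoc]

theorem raise_lower {G : Over (Spec (CommRingCat.of k))} (x : sp K B ⟶ Red.bc (base k K) G) :
    raise (lower x) = x := by
  rw [lower, raise, MTBridge.toBC, Iso.hom_inv_id_assoc, Equiv.apply_symm_apply]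

theorem raise_mul {G : Over (Spec (CommRingCat.of k))} [GrpObj G] (a b : sp k B ⟶ G) :
    raise (K := K) (a * b) = raise a * raise b := by
  rw [raise, MonObj.comp_mul, MTBridge.toBC_mul]
  rfl

theorem lower_injective {G : Over (Spec (CommRingCat.of k))} {x y : sp K B ⟶ Red.bc (base k K) G}
    (h : lower x = lower y) : x = y := by
  rw [← raise_lower x, h, raise_lower]

theorem lower_mul {G : Over (Spec (CommRingCat.of k))} [GrpObj G] (x y : sp K B ⟶ Red.bc (base k K) G) :
    lower (x * y) = lower x * lower y := by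
  conv_lhs => rw [← raise_lower x, ← raise_lower y, ← raise_mul, lower_raise]

theorem raise_comp {G G' : Over (Spec (CommRingCat.of k))} (a : sp k B ⟶ G) (u : G ⟶ G') :
    raise (K := K) (a ≫ u) = raise a ≫ (Over.pullback (base k K)).map u := by
  rw [raise, raise, ← Category.assoc, MTBridge.toBC_comp]

theorem lower_comp {G G' : Over (Spec (CommRingCat.of k))} (x : sp K B ⟶ Red.bc (base k K) G) (u : G ⟶ G') :
    lower (x ≫ (Over.pullback (base k K)).map u) = lower x ≫ u := by
  conv_lhs => rw [← raise_lower x, ← raise_comp, lower_raise]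

theorem lower_pt {G : Over (Spec (CommRingCat.of k))} {C : Type u} [CommRing C] [Algebra k C] [Algebra K C]
    [IsScalarTower k K C] (h : B →ₐ[K] C) (x : sp K B ⟶ Red.bc (base k K) G) :
    lower (pt h ≫ x) = pt (h.restrictScalars k) ≫ lower x := by
  conv_lhs => rw [← raise_lower x, raise, ← MTBridge.toBC_precomp]
  rw [lower, MTBridge.toBC, Equiv.symm_apply_apply, ← Category.assoc, ← Category.assoc]
  congr 1

/-- Points of the base change of the general linear group as invertible matrices. -/
def matK : (sp K B ⟶ Red.bc (base k K) (Gk k m)) →* Matrix.GeneralLinearGroup (Fin m) B :=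
  MonoidHom.mk' (fun x => matHom (lower x)) fun x y => by rw [lower_mul, map_mul]

theorem coe_matK (x : sp K B ⟶ Red.bc (base k K) (Gk k m)) :
    (matK x : Matrix (Fin m) (Fin m) B) = mat (lower x) := rfl

theorem matK_injective : Function.Injective (matK (k := k) (m := m) (K := K) (B := B)) :=
  fun _ _ h => lower_injective (matHom_injective h)

theorem exists_matK_eq (g : Matrix.GeneralLinearGroup (Fin m) B) :
    ∃ x : sp K B ⟶ Red.bc (base k K) (Gk k m), matK x = g := by
  obtain ⟨a, ha⟩ := exists_matHom_eq (k := k) g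
  exact ⟨raise a, (congrArg matHom (lower_raise a)).trans ha⟩

theorem matK_comp {C : Type u} [CommRing C] [Algebra k C] [Algebra K C] [IsScalarTower k K C]
    (h : B →ₐ[K] C) (x : sp K B ⟶ Red.bc (base k K) (Gk k m)) :
    (matK (pt h ≫ x) : Matrix (Fin m) (Fin m) C) = (matK x : Matrix (Fin m) (Fin m) B).map h := by
  rw [coe_matK, coe_matK, lower_pt, mat_comp]
  rfl

end BC

end Groth.Agent.DualCyc
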