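import Groth.Agent.DualCyc.Main

/-!
# Standard diagonalisable subgroups of the general linear group
-/

set_option autoImplicit false
set_option linter.style.haveILetI false
set_option backward.isDefEq.respectTransparency.types false
set_option synthInstance.maxHeartbeats 400000

universe u

open CategoryTheory Limits MonoidalCategory CartesianMonoidalCategory AlgebraicGeometry TensorProduct WithConv
open scoped CategoryTheory.Obj MonObj GrpObj

noncomputable section

namespace Groth.Agent.DualCyc

open CoactBr CoordGrp Groth.Agent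

variable {k : Type u} [Field k] {K : Type u} [Field K] [Algebra k K] {m : ℕ}
  {Λ : Type} [CommGroup Λ] [Fintype Λ] [DecidableEq Λ]

omit [Fintype Λ] [DecidableEq Λ] in
theorem det_diagW (w : Fin m → Λ) :
    (diagW (F := k) w).det = MonoidAlgebra.single (∏ i, w i) 1 := by
  rw [diagW, Matrix.det_diagonal]
  exact (map_prod (MonoidAlgebra.of k Λ) w Finset.univ).symm

/-- The map of coordinate rings of a diagonal subgroup. -/
def phiW (k : Type u) [Field k] (w : Fin m → Λ) : GLn m k →ₐ[k] MonoidAlgebra k Λ :=
  GLn.pt m k (diagW w) (MonoidAlgebra.single (∏ i, w i)⁻¹ 1) (by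
    rw [det_diagW, MonoidAlgebra.single_mul_single, mul_inv_cancel, one_mul]; rfl)

omit [Fintype Λ] [DecidableEq Λ] in
theorem algMat_phiW (w : Fin m → Λ) : algMat (phiW k w) = diagW w :=
  Matrix.ext fun i j => GLn.pt_X _ _ _ i j

omit [Fintype Λ] [DecidableEq Λ] in
/-- A diagonal subgroup. -/
theorem exists_diag_hom (w : Fin m → Λ) :
    ∃ u : sp k (MonoidAlgebra k Λ) ⟶ Gk k m, IsMonHom u ∧ u = pt (phiW k w) := by
  classical
  have hε : (Bialgebra.counitAlgHom k (MonoidAlgebra k Λ)).comp (phiW k w) = Bialgebra.counitAlgHom k (GLn m k) := by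
    refine algMat_injective (Matrix.ext fun i j => ?_)
    show Bialgebra.counitAlgHom k _ (algMat (phiW k w) i j) = Bialgebra.counitAlgHom k (GLn m k) (GLn.mk m k (GLb.X i j))
    rw [algMat_phiW, Bialgebra.counitAlgHom_apply, Bialgebra.counitAlgHom_apply, GLn.counit_mk, GLb.counit_X]
    by_cases hij : i = j
    · subst hij; simp [diagW]
    · simp [diagW, hij]
  have hΔ : (Algebra.TensorProduct.map (phiW k w) (phiW k w)).comp (Bialgebra.comulAlgHom k (GLn m k)) =
      (Bialgebra.comulAlgHom k (MonoidAlgebra k Λ)).comp (phiW k w) := by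
    refine algMat_injective (Matrix.ext fun i j => ?_)
    show Algebra.TensorProduct.map (phiW k w) (phiW k w) (Bialgebra.comulAlgHom k (GLn m k) (GLn.mk m k (GLb.X i j))) =
      Bialgebra.comulAlgHom k _ (algMat (phiW k w) i j)
    rw [algMat_phiW, Bialgebra.comulAlgHom_apply, Bialgebra.comulAlgHom_apply, GLn.comul_mk, GLb.comul_X, map_sum, map_sum]
    simp only [Algebra.TensorProduct.map_tmul]
    have hX : ∀ a b, phiW k w (GLn.mk m k (GLb.X a b)) = diagW w a b := fun a b => GLn.pt_X _ _ _ a b
    simp only [hX]
    by_cases hij : i = j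
    · subst hij
      rw [Finset.sum_eq_single i]
      · simp [diagW, (MonoidAlgebra.isGroupLikeElem_single_one (w i)).comul_eq_tmul_self]
      · intro l _ hl; simp [diagW, Ne.symm hl]
      · simp
    · rw [Finset.sum_eq_zero fun l _ => ?_]
      · simp [diagW, hij]
      · by_cases hl : i = l
        · subst hl; simp [diagW, hij]
        · simp [diagW, hl]
  let F := (hopfSpec (CommRingCat.of k)).map (CommHopfAlgCat.ofHom (BialgHom.ofAlgHom (phiW k w) hε hΔ)).op
  exact ⟨F.hom.hom, F.hom.isMonHom_hom, rfl⟩

theorem eq_spec_comp {R S T C : Type u} [CommRing R] [CommRing S] [CommRing T] [CommRing C] [Algebra R S]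
    [Algebra R T] (φ : S ⊗[R] T →+* C)
    (x : Spec (CommRingCat.of C) ⟶
      pullback (Spec.map (CommRingCat.ofHom (algebraMap R S))) (Spec.map (CommRingCat.ofHom (algebraMap R T))))
    (h1 : x ≫ pullback.fst _ _ = Spec.map (CommRingCat.ofHom (φ.comp Algebra.TensorProduct.includeLeftRingHom)))
    (h2 : x ≫ pullback.snd _ _ =
      Spec.map (CommRingCat.ofHom (φ.comp (Algebra.TensorProduct.includeRight : T →ₐ[R] S ⊗[R] T).toRingHom))) :
    x = Spec.map (CommRingCat.ofHom φ) ≫ (pullbackSpecIso R S T).inv := by
  refine pullback.hom_ext ?_ ?_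
  · rw [h1, Category.assoc, pullbackSpecIso_inv_fst, ← Spec.map_comp]; rfl
  · rw [h2, Category.assoc, pullbackSpecIso_inv_snd, ← Spec.map_comp]; rfl

omit [Fintype Λ] [DecidableEq Λ] in
/-- The universal point of the base change of a diagonalisable group is an isomorphism. -/
theorem isIso_raise_ext : IsIso (raise (K := K) (pt (extH k K Λ))) := by
  let f : MonoidAlgebra k Λ →ₐ[k] MonoidAlgebra K Λ := extH k K Λ
  let ψ : MonoidAlgebra k Λ ⊗[k] K →ₐ[k] MonoidAlgebra K Λ :=
    Algebra.TensorProduct.lift f (IsScalarTower.toAlgHom k K (MonoidAlgebra K Λ)) fun _ _ => Commute.all _ _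
  have hψ : ψ = ((MonoidAlgebra.scalarTensorEquiv (M := Λ) k K).restrictScalars k).toAlgHom.comp
      (Algebra.TensorProduct.comm k (MonoidAlgebra k Λ) K).toAlgHom := by
    refine Algebra.TensorProduct.ext' fun x c => ?_
    simp [ψ, f, extH, MonoidAlgebra.scalarTensorEquiv_tmul, Algebra.smul_def, mul_comm]
  have hb : Function.Bijective ψ := by
    rw [hψ, AlgHom.coe_comp]
    exact (((MonoidAlgebra.scalarTensorEquiv (M := Λ) k K).restrictScalars k).bijective).comp
      (Algebra.TensorProduct.comm k (MonoidAlgebra k Λ) K).bijective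
  haveI hiso : IsIso (CommRingCat.ofHom ψ.toRingHom) := by
    exact (ConcreteCategory.isIso_iff_bijective _).2 hb
  haveI : IsIso (raise (K := K) (pt f)).left := by
    have hspec : IsIso (Spec.map (CommRingCat.ofHom ψ.toRingHom)) :=
      ((RingEquiv.ofBijective ψ.toRingHom hb).toCommRingCatIso.op |> Scheme.Spec.mapIso).isIso_hom
    have h : (raise (K := K) (pt f)).left =
        Spec.map (CommRingCat.ofHom ψ.toRingHom) ≫ (pullbackSpecIso k (MonoidAlgebra k Λ) K).inv := by
      refine eq_spec_comp ψ.toRingHom _ ?_ ?_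
      · refine (show _ = Spec.map (CommRingCat.ofHom f.toRingHom) from ?_).trans ?_
        · simp [raise, MTBridge.toBC, Over.mapPullbackAdj, mapIso]
          erw [pullback.lift_fst, Category.id_comp]
        · congr 2
          refine RingHom.ext fun x => ?_
          simp [ψ, ← MonoidAlgebra.one_def]
      · refine (Over.w (raise (K := K) (pt f))).trans ?_
        show Spec.map _ = _
        congr 2
        refine RingHom.ext fun x => ?_
        simp [ψ]
    rw [h]
    exact IsIso.comp_isIso' hspec inferInstance
  haveI : IsIso ((Over.forget _).map (raise (K := K) (pt f))) :=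
    inferInstanceAs (IsIso (raise (K := K) (pt f)).left)
  exact isIso_of_reflects_iso _ (Over.forget _)

omit [Fintype Λ] [DecidableEq Λ] in
/-- A closed immersion into the base change: the coordinate ring is generated over the new base. -/
theorem generated_of_isClosedImmersion (u : sp K (MonoidAlgebra K Λ) ⟶ Red.bc (base k K) (Gk k m))
    [IsClosedImmersion u.left] (R : Subalgebra K (MonoidAlgebra K Λ))
    (h : ∀ o, toAlg (lower u) o ∈ R) : R = ⊤ := by
  let ψ : GLn m k ⊗[k] K →ₐ[k] MonoidAlgebra K Λ :=
    Algebra.TensorProduct.lift (toAlg (lower u)) (IsScalarTower.toAlgHom k K (MonoidAlgebra K Λ))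
      fun _ _ => Commute.all _ _
  have hu : u.left = Spec.map (CommRingCat.ofHom ψ.toRingHom) ≫ (pullbackSpecIso k (GLn m k) K).inv := by
    refine eq_spec_comp ψ.toRingHom _ ?_ ?_
    · refine (show _ = Spec.map (CommRingCat.ofHom (toAlg (lower u)).toRingHom) from ?_).trans ?_
      · rw [← pt_left, pt_toAlg]
        simp [lower, Over.mapPullbackAdj, mapIso]
        erw [Category.id_comp]
        rfl
      · congr 2
        refine RingHom.ext fun x => ?_
        simp [ψ, ← MonoidAlgebra.one_def]
    · refine (Over.w u).trans ?_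
      show Spec.map _ = _
      congr 2
      refine RingHom.ext fun x => ?_
      simp [ψ]
  haveI : IsClosedImmersion (Spec.map (CommRingCat.ofHom ψ.toRingHom)) := by
    have h' : IsClosedImmersion (Spec.map (CommRingCat.ofHom ψ.toRingHom) ≫ (pullbackSpecIso k (GLn m k) K).inv) :=
      (congrArg IsClosedImmersion hu).mp inferInstance
    exact (MorphismProperty.cancel_right_of_respectsIso @IsClosedImmersion _ _).1 h'
  have hsurj : Function.Surjective ψ := by
    have h' := ((IsClosedImmersion.isAffine_surjective_of_isAffine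
      (Spec.map (CommRingCat.ofHom ψ.toRingHom))).2)
    exact (RingHom.surjective_respectsIso.arrow_mk_iso_iff
      (arrowIsoΓSpecOfIsAffine (CommRingCat.ofHom ψ.toRingHom))).2 h'
  refine eq_top_iff.2 ?_
  rintro x -
  obtain ⟨y, rfl⟩ := hsurj x
  induction y using TensorProduct.induction_on with
  | zero => rw [map_zero]; exact R.zero_mem
  | add a b ha hb => rw [map_add]; exact R.add_mem ha hb
  | tmul o c =>
    rw [show ψ (o ⊗ₜ c) = toAlg (lower u) o * algebraMap K _ c by simp [ψ]]
    exact R.mul_mem (h o) (R.algebraMap_mem c)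

/-- Every diagonalisable subgroup over the extension is conjugate to a standard one. -/
theorem exists_standard (u : sp K (MonoidAlgebra K Λ) ⟶ Red.bc (base k K) (Gk k m)) [IsMonHom u]
    [IsClosedImmersion u.left] :
    ∃ (w : Fin m → Λ) (G : Matrix.GeneralLinearGroup (Fin m) K), Function.Surjective (phiW k w) ∧
      cst (G : Matrix (Fin m) (Fin m) K) * (matK u : Matrix (Fin m) (Fin m) (MonoidAlgebra K Λ)) =
        diagW w * cst (G : Matrix (Fin m) (Fin m) K) := by
  classical
  let M : Matrix (Fin m) (Fin m) (MonoidAlgebra K Λ) := (matK u : Matrix (Fin m) (Fin m) (MonoidAlgebra K Λ))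
  obtain ⟨G, w, hG⟩ := exists_diag (cmat M) (cmat_mul M (matK_comul u)) (sum_cmat M (matK_counit u))
  have heq : cst (G : Matrix (Fin m) (Fin m) K) * M = diagW w * cst (G : Matrix (Fin m) (Fin m) K) :=
    cmat_ext fun c => by rw [cmat_cst_mul, cmat_mul_cst, cmat_diagW]; exact hG c
  refine ⟨w, G, ?_, heq⟩
  let W : Subgroup Λ := Subgroup.closure (Set.range w)
  let R := (MonoidAlgebra.mapDomainAlgHom K K W.subtype).range
  have hsR : ∀ x ∈ W, MonoidAlgebra.single x (1 : K) ∈ R := fun x hx =>
    ⟨MonoidAlgebra.single ⟨x, hx⟩ 1, by simp⟩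
  have hwW : ∀ i, w i ∈ W := fun i => Subgroup.subset_closure ⟨i, rfl⟩
  have hDR : ∀ i j, diagW w i j ∈ R := fun i j => by
    by_cases hij : i = j
    · subst hij; simpa [diagW] using hsR _ (hwW i)
    · simp [diagW, hij]
  have hM : M = cst ((G⁻¹ : Matrix.GeneralLinearGroup (Fin m) K) : Matrix (Fin m) (Fin m) K) * diagW w *
      cst (G : Matrix (Fin m) (Fin m) K) := by
    rw [mul_assoc, ← heq, ← mul_assoc, cst, cst, ← Matrix.map_mul, ← Units.val_mul, inv_mul_cancel, Units.val_one,
      Matrix.map_one _ (map_zero _) (map_one _), one_mul]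
  have hR : R = ⊤ := by
    refine generated_of_isClosedImmersion u R fun o => ?_
    have hS : (R.restrictScalars k).comap (toAlg (lower u)) = ⊤ := by
      refine gln_induction (fun i j => ?_) ?_
      · show M i j ∈ R
        rw [hM]
        exact mem_of_sum_mul R _ _ _ hDR i j
      · show toAlg (lower u) GLn.Dinv ∈ R
        have hdet : M.det = MonoidAlgebra.single (∏ i, w i) 1 := by
          have hd := congrArg Matrix.det heq
          rw [Matrix.det_mul, Matrix.det_mul, mul_comm, det_diagW] at hd
          exact ((Matrix.isUnit_iff_isUnit_det _).1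
            (Matrix.GeneralLinearGroup.map (algebraMap K _) G).isUnit).mul_right_cancel hd
        rw [show toAlg (lower u) GLn.Dinv = MonoidAlgebra.single (∏ i, w i)⁻¹ 1 from
          left_inv_eq_right_inv (a := M.det) (by rw [mul_comm]; exact det_algMat (toAlg (lower u))) (by
            rw [hdet, MonoidAlgebra.single_mul_single, mul_inv_cancel, one_mul]; rfl)]
        exact hsR _ (W.inv_mem (Subgroup.prod_mem _ fun i _ => hwW i))
    have : o ∈ (R.restrictScalars k).comap (toAlg (lower u)) := hS.symm ▸ Algebra.mem_top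
    exact this
  have hW : Function.Surjective W.subtype := eq_top_of_single_mem W.subtype fun c => by
    show MonoidAlgebra.single c (1 : K) ∈ R
    rw [hR]; exact Algebra.mem_top
  let S : Subgroup Λ :=
    { carrier := {c | MonoidAlgebra.single c (1 : k) ∈ (phiW k w).range}
      one_mem' := ⟨1, (map_one _).trans MonoidAlgebra.one_def⟩
      mul_mem' := fun {a b} ha hb => by
        show MonoidAlgebra.single (a * b) (1 : k) ∈ (phiW k w).range
        rw [← mul_one (1 : k), ← MonoidAlgebra.single_mul_single]
        exact (phiW k w).range.mul_mem ha hb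
      inv_mem' := fun {a} ha => by
        show MonoidAlgebra.single a⁻¹ (1 : k) ∈ (phiW k w).range
        rw [show a⁻¹ = a ^ (orderOf a - 1) by
            refine inv_eq_of_mul_eq_one_right ?_
            rw [← pow_succ', Nat.sub_add_cancel (orderOf_pos a), pow_orderOf_eq_one],
          show MonoidAlgebra.single (a ^ (orderOf a - 1)) (1 : k) = MonoidAlgebra.single a 1 ^ (orderOf a - 1) by
            rw [MonoidAlgebra.single_pow, one_pow]]
        exact (phiW k w).range.pow_mem ha _ }
  have hWS : W ≤ S := (Subgroup.closure_le _).2 fun x hx => by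
    obtain ⟨i, rfl⟩ := hx
    exact ⟨GLn.X i i, by
      show algMat (phiW k w) i i = _
      rw [algMat_phiW]; simp [diagW]⟩
  intro x
  show x ∈ (phiW k w).range
  induction x using MonoidAlgebra.induction_linear with
  | zero => exact Subalgebra.zero_mem _
  | add a b ha hb => exact Subalgebra.add_mem _ ha hb
  | single c r =>
    rw [show MonoidAlgebra.single c r = r • MonoidAlgebra.single c (1 : k) by
      rw [MonoidAlgebra.smul_single, smul_eq_mul, mul_one]]
    obtain ⟨⟨d, hd⟩, rfl⟩ := hW c
    exact Subalgebra.smul_mem _ (hWS hd) r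

end Groth.Agent.DualCyc
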