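import Mathlib

/-!
# Matrix corepresentations of diagonalisable groups over a field are diagonalisable
-/

set_option autoImplicit false
set_option linter.style.haveILetI false

universe u v

open TensorProduct

noncomputable section

namespace Groth.Agent.DualCyc

variable {F : Type u} [Field F] {μ : Type v} [CommGroup μ] [Fintype μ] [DecidableEq μ] {m : ℕ}

/-- The coefficient matrix of a character. -/
def cmat (M : Matrix (Fin m) (Fin m) (MonoidAlgebra F μ)) (c : μ) : Matrix (Fin m) (Fin m) F :=
  fun i j => (M i j).coeff c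

/-- A scalar matrix in the group algebra. -/
def cst (A : Matrix (Fin m) (Fin m) F) : Matrix (Fin m) (Fin m) (MonoidAlgebra F μ) :=
  A.map (algebraMap F (MonoidAlgebra F μ))

/-- A diagonal corepresentation. -/
def diagW (w : Fin m → μ) : Matrix (Fin m) (Fin m) (MonoidAlgebra F μ) :=
  Matrix.diagonal fun i => MonoidAlgebra.single (w i) 1

omit [Fintype μ] [DecidableEq μ] in
theorem cmat_cst_mul (A : Matrix (Fin m) (Fin m) F) (M : Matrix (Fin m) (Fin m) (MonoidAlgebra F μ)) (c : μ) :
    cmat (cst A * M) c = A * cmat M c := by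
  ext i j
  simp only [cmat, Matrix.mul_apply, cst, Matrix.map_apply, ← Algebra.smul_def, MonoidAlgebra.coeff_sum,
    Finsupp.finsetSum_apply, MonoidAlgebra.coeff_smul, Finsupp.smul_apply, smul_eq_mul]

omit [Fintype μ] [DecidableEq μ] in
theorem cmat_mul_cst (M : Matrix (Fin m) (Fin m) (MonoidAlgebra F μ)) (A : Matrix (Fin m) (Fin m) F) (c : μ) :
    cmat (M * cst A) c = cmat M c * A := by
  ext i j
  simp only [cmat, Matrix.mul_apply, cst, Matrix.map_apply]
  rw [MonoidAlgebra.coeff_sum, Finsupp.finsetSum_apply]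
  refine Finset.sum_congr rfl fun l _ => ?_
  rw [← Algebra.commutes, ← Algebra.smul_def, MonoidAlgebra.coeff_smul, Finsupp.smul_apply, smul_eq_mul, mul_comm]

omit [Fintype μ] [DecidableEq μ] [CommGroup μ] in
theorem cmat_ext {M N : Matrix (Fin m) (Fin m) (MonoidAlgebra F μ)} (h : ∀ c, cmat M c = cmat N c) : M = N :=
  Matrix.ext fun i j => MonoidAlgebra.ext (Finsupp.ext fun c => congrFun (congrFun (h c) i) j)

omit [Fintype μ] in
theorem cmat_diagW (w : Fin m → μ) (c : μ) :
    cmat (diagW (F := F) w) c = Matrix.diagonal fun i => if w i = c then 1 else 0 := by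
  ext i j
  by_cases hij : i = j
  · subst hij
    simp [cmat, diagW, Finsupp.single_apply]
  · simp [cmat, diagW, hij]

omit [Fintype μ] in
/-- Orthogonality of the coefficient matrices. -/
theorem cmat_mul (M : Matrix (Fin m) (Fin m) (MonoidAlgebra F μ))
    (hΔ : M.map (Bialgebra.comulAlgHom F (MonoidAlgebra F μ)) =
      M.map (Algebra.TensorProduct.includeLeft : MonoidAlgebra F μ →ₐ[F] MonoidAlgebra F μ ⊗[F] MonoidAlgebra F μ) *
        M.map (Algebra.TensorProduct.includeRight : MonoidAlgebra F μ →ₐ[F] MonoidAlgebra F μ ⊗[F] MonoidAlgebra F μ))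
    (c d : μ) : cmat M c * cmat M d = if c = d then cmat M c else 0 := by
  ext i j
  let φ : μ → (MonoidAlgebra F μ →ₗ[F] F) := fun a =>
    { toFun := fun x => x.coeff a, map_add' := fun _ _ => rfl, map_smul' := fun _ _ => rfl }
  have hφ : ∀ a x, φ a x = x.coeff a := fun _ _ => rfl
  let L : MonoidAlgebra F μ ⊗[F] MonoidAlgebra F μ →ₗ[F] F :=
    LinearMap.mul' F F ∘ₗ TensorProduct.map (φ c) (φ d)
  have h := congrArg (fun z => L z) (congrFun (congrFun hΔ i) j)
  have hcomul : ∀ x : MonoidAlgebra F μ, L (Bialgebra.comulAlgHom F (MonoidAlgebra F μ) x) =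
      if c = d then x.coeff c else 0 := by
    intro x
    induction x using MonoidAlgebra.induction_linear with
    | zero => simp
    | add a b ha hb => rw [map_add, map_add, ha, hb]; split_ifs <;> simp
    | single a r =>
      rw [show MonoidAlgebra.single a r = r • MonoidAlgebra.single a (1 : F) by
        rw [MonoidAlgebra.smul_single, smul_eq_mul, mul_one], map_smul, map_smul, Bialgebra.comulAlgHom_apply,
        (MonoidAlgebra.isGroupLikeElem_single_one a).comul_eq_tmul_self]
      by_cases hcd : c = d
      · subst hcd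
        by_cases hac : a = c
        · subst hac; simp [L, hφ]
        · simp [L, hφ, hac]
      · by_cases hac : a = c
        · subst hac; simp [L, hφ, hcd]
        · simp [L, hφ, hac]
  simp only [Matrix.map_apply, Matrix.mul_apply, map_sum, hcomul] at h
  rw [Matrix.mul_apply]
  rw [show (if c = d then cmat M c else 0) i j = if c = d then (M i j).coeff c else 0 by split_ifs <;> rfl, h]
  refine Finset.sum_congr rfl fun l _ => ?_
  simp [L, hφ, cmat]

/-- The coefficient matrices add up to the identity. -/
theorem sum_cmat (M : Matrix (Fin m) (Fin m) (MonoidAlgebra F μ))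
    (hε : M.map (Bialgebra.counitAlgHom F (MonoidAlgebra F μ)) = 1) : ∑ c, cmat M c = 1 := by
  rw [← hε]
  ext i j
  rw [Matrix.sum_apply, Matrix.map_apply]
  have : ∀ x : MonoidAlgebra F μ, Bialgebra.counitAlgHom F (MonoidAlgebra F μ) x = ∑ c, x.coeff c := by
    intro x
    induction x using MonoidAlgebra.induction_linear with
    | zero => simp
    | add a b ha hb => simp [map_add, ha, hb, Finset.sum_add_distrib]
    | single a r => simp [Bialgebra.counitAlgHom_apply, Finsupp.single_apply]
  rw [this]
  rfl

/-- A complete family of orthogonal idempotent matrices is diagonalisable. -/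
theorem exists_diag (P : μ → Matrix (Fin m) (Fin m) F) (h1 : ∀ c d, P c * P d = if c = d then P c else 0)
    (h2 : ∑ c, P c = 1) :
    ∃ (G : Matrix.GeneralLinearGroup (Fin m) F) (w : Fin m → μ), ∀ c,
      (G : Matrix (Fin m) (Fin m) F) * P c = (Matrix.diagonal fun i => if w i = c then (1 : F) else 0) * (G : Matrix (Fin m) (Fin m) F) := by
  let V := Fin m → F
  let U : μ → Submodule F V := fun c => LinearMap.range (Matrix.toLin' (P c))
  have hfix : ∀ (c d : μ) (x : U c), (P d).mulVec (x : V) = if d = c then (x : V) else 0 := by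
    intro c d x
    obtain ⟨y, hy⟩ := x.2
    rw [← hy, Matrix.toLin'_apply, Matrix.mulVec_mulVec, h1]
    split_ifs with h
    · rw [h]
    · rw [Matrix.zero_mulVec]
  let e : V ≃ₗ[F] ∀ c, U c :=
    { toFun := fun v c => ⟨(P c).mulVec v, v, Matrix.toLin'_apply _ _⟩
      map_add' := fun v v' => funext fun c => Subtype.ext (by
        show (P c).mulVec ((v : Fin m → F) + v') = _
        rw [Matrix.mulVec_add]; rfl)
      map_smul' := fun r v => funext fun c => Subtype.ext (by
        show (P c).mulVec (r • (v : Fin m → F)) = _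
        rw [Matrix.mulVec_smul]; rfl)
      invFun := fun f => ∑ c, ((f c : U c) : V)
      left_inv := fun v => by
        show ∑ c, (P c).mulVec v = v
        rw [← Matrix.sum_mulVec, h2, Matrix.one_mulVec]
      right_inv := fun f => funext fun d => Subtype.ext (by
        show (P d).mulVec (∑ c, ((f c : U c) : V)) = _
        rw [Matrix.mulVec_sum, Finset.sum_congr rfl fun c _ => hfix c d (f c), Finset.sum_ite_eq]
        simp) }
  let b₀ : Module.Basis (Σ c, Fin (Module.finrank F (U c))) F (∀ c, U c) :=
    Pi.basis fun c => Module.finBasis F (U c)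
  let σ : (Σ c, Fin (Module.finrank F (U c))) ≃ Fin m :=
    Fintype.equivFinOfCardEq (by
      rw [← Module.finrank_eq_card_basis (b₀.map e.symm), Module.finrank_fin_fun])
  let b : Module.Basis (Fin m) F V := (b₀.map e.symm).reindex σ
  let w : Fin m → μ := fun i => (σ.symm i).1
  have hPb : ∀ d i, (P d).mulVec (b i) = if d = w i then b i else 0 := by
    intro d i
    have hb : b i ∈ U (w i) := by
      show (b₀.map e.symm).reindex σ i ∈ _
      rw [Module.Basis.reindex_apply, Module.Basis.map_apply]
      show ∑ c, ((b₀ (σ.symm i) c : U c) : V) ∈ _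
      rw [Finset.sum_eq_single (σ.symm i).1]
      · exact Submodule.coe_mem _
      · intro c _ hc
        rw [Pi.basis_apply, Pi.single_eq_of_ne hc]
        rfl
      · simp
    exact hfix (w i) d ⟨b i, hb⟩
  let B : Matrix (Fin m) (Fin m) F := (Pi.basisFun F (Fin m)).toMatrix b
  letI : Invertible B := (Pi.basisFun F (Fin m)).invertibleToMatrix b
  refine ⟨⟨⅟B, B, invOf_mul_self B, mul_invOf_self B⟩, w, fun c => ?_⟩
  show ⅟B * P c = _ * ⅟B
  have hPB : P c * B = B * Matrix.diagonal fun i => if w i = c then (1 : F) else 0 := by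
    ext i j
    rw [Matrix.mul_diagonal]
    calc (P c * B) i j = ((P c).mulVec (b j)) i := by
          simp [Matrix.mul_apply, Matrix.mulVec, dotProduct, B, Module.Basis.toMatrix_apply]
      _ = _ := by
          rw [hPb]
          by_cases hc : c = w j
          · simp [hc, B, Module.Basis.toMatrix_apply]
          · simp [hc, Ne.symm hc]
            rfl
  calc ⅟B * P c = ⅟B * (P c * B) * ⅟B := by rw [mul_assoc, mul_assoc, mul_invOf_self, mul_one]
    _ = _ := by rw [hPB, ← mul_assoc, invOf_mul_self, one_mul]

omit [CommGroup μ] [Fintype μ] in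
/-- Conjugate diagonal families have the same multiplicities. -/
theorem exists_perm (w₁ w₂ : Fin m → μ) (G : Matrix.GeneralLinearGroup (Fin m) F)
    (h : ∀ c, (G : Matrix (Fin m) (Fin m) F) * (Matrix.diagonal fun i => if w₁ i = c then (1 : F) else 0) =
      (Matrix.diagonal fun i => if w₂ i = c then (1 : F) else 0) * (G : Matrix (Fin m) (Fin m) F)) :
    ∃ π : Equiv.Perm (Fin m), ∀ i, w₂ (π i) = w₁ i := by
  have hdet : IsUnit (G : Matrix (Fin m) (Fin m) F).det := (Matrix.isUnit_iff_isUnit_det _).1 G.isUnit
  have hcard : ∀ c, Fintype.card {i // w₁ i = c} = Fintype.card {i // w₂ i = c} := by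
    intro c
    classical
    have hr := congrArg Matrix.rank (h c)
    rw [Matrix.rank_mul_eq_right_of_isUnit_det _ _ hdet, Matrix.rank_mul_eq_left_of_isUnit_det _ _ hdet,
      Matrix.rank_diagonal, Matrix.rank_diagonal] at hr
    simpa [Fintype.card_subtype] using hr
  let ec : ∀ c, {i // w₁ i = c} ≃ {i // w₂ i = c} := fun c => Fintype.equivOfCardEq (hcard c)
  refine ⟨(Equiv.sigmaFiberEquiv w₁).symm.trans ((Equiv.sigmaCongrRight ec).trans (Equiv.sigmaFiberEquiv w₂)),
    fun i => ?_⟩
  exact ((ec (w₁ i)) ⟨i, rfl⟩).2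

omit [CommGroup μ] [Fintype μ] in
/-- A permutation matrix conjugates diagonal families. -/
theorem exists_perm_conj (w₁ w₂ : Fin m → μ) (π : Equiv.Perm (Fin m)) (hπ : ∀ i, w₂ (π i) = w₁ i) :
    ∃ G : Matrix.GeneralLinearGroup (Fin m) F, ∀ c,
      (G : Matrix (Fin m) (Fin m) F) * (Matrix.diagonal fun i => if w₁ i = c then (1 : F) else 0) =
      (Matrix.diagonal fun i => if w₂ i = c then (1 : F) else 0) * (G : Matrix (Fin m) (Fin m) F) := by
  let P : Matrix (Fin m) (Fin m) F := Matrix.of fun i j => if π.symm i = j then 1 else 0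
  have hP : IsUnit P := by
    refine (Matrix.isUnit_iff_isUnit_det _).2 (Matrix.isUnit_det_of_right_inverse
      (B := Matrix.of fun i j => if π i = j then (1 : F) else 0) ?_)
    ext i j
    simp [P, Matrix.mul_apply, Matrix.one_apply, ← Equiv.eq_symm_apply]
  refine ⟨hP.unit, fun c => ?_⟩
  rw [IsUnit.unit_spec]
  ext i j
  rw [Matrix.mul_diagonal, Matrix.diagonal_mul]
  by_cases hij : π.symm i = j
  · subst hij
    have : w₁ (π.symm i) = w₂ i := by rw [← hπ, Equiv.apply_symm_apply]
    simp [this, P]
  · simp [P, hij]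

end Groth.Agent.DualCyc
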