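import Groth.Agent.DualCyc.Basic
import Groth.Agent.DualCyc.Idem

/-!
# Rationality of diagonalisable finite subgroups of the general linear group
-/

set_option autoImplicit false
set_option linter.style.haveILetI false
set_option backward.isDefEq.respectTransparency.types false
set_option synthInstance.maxHeartbeats 400000

universe u

open CategoryTheory Limits MonoidalCategory CartesianMonoidalCategory AlgebraicGeometry TensorProduct WithConv
open scoped CategoryTheory.Obj MonObj GrpObj

noncomputable section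

namespace Groth.Agent.DualCyc

open CoactBr CoordGrp Groth.Agent

variable {k : Type u} [Field k] {K : Type u} [Field K] [Algebra k K] {m : ℕ}
  {Λ : Type} [CommGroup Λ] [Fintype Λ] [DecidableEq Λ]

variable (k K Λ) in
/-- Extension of scalars of a group algebra. -/
def extH : MonoidAlgebra k Λ →ₐ[k] MonoidAlgebra K Λ := MonoidAlgebra.mapAlgHom Λ (Algebra.ofId k K)

omit [Fintype Λ] [DecidableEq Λ] in
theorem ext_single (c : Λ) (r : k) : extH k K Λ (MonoidAlgebra.single c r) = MonoidAlgebra.single c (algebraMap k K r) :=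
  MonoidAlgebra.mapAlgHom_single _ _ _

omit [Fintype Λ] [DecidableEq Λ] in
theorem ext_coeff (x : MonoidAlgebra k Λ) (c : Λ) : (extH k K Λ x).coeff c = algebraMap k K (x.coeff c) :=
  MonoidAlgebra.coeff_mapAlgHom _ _ _

/-- The product of the two inclusions is the comultiplication. -/
theorem convMul_incl {R H : Type u} [CommRing R] [CommRing H] [Bialgebra R H] :
    (toConv (Algebra.TensorProduct.includeLeft : H →ₐ[R] H ⊗[R] H) *
      toConv (Algebra.TensorProduct.includeRight : H →ₐ[R] H ⊗[R] H) : WithConv (H →ₐ[R] H ⊗[R] H)).ofConv =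
      Bialgebra.comulAlgHom R H := by
  refine AlgHom.ext fun x => ?_
  show (toConv (Algebra.TensorProduct.includeLeft : H →ₐ[R] H ⊗[R] H) *
      toConv (Algebra.TensorProduct.includeRight : H →ₐ[R] H ⊗[R] H) : WithConv (H →ₐ[R] H ⊗[R] H)) x = _
  rw [AlgHom.convMul_apply, Bialgebra.comulAlgHom_apply]
  induction CoalgebraStruct.comul (R := R) x using TensorProduct.induction_on with
  | zero => simp
  | add a b ha hb => simp only [map_add, ha, hb]
  | tmul a b => simp

omit [Fintype Λ] [DecidableEq Λ] in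
/-- Orthogonality for a homomorphism into the general linear group. -/
theorem mat_comul (u : sp k (MonoidAlgebra k Λ) ⟶ Gk k m) [IsMonHom u] :
    (mat u).map (Bialgebra.comulAlgHom k (MonoidAlgebra k Λ)) =
      (mat u).map (Algebra.TensorProduct.includeLeft : _ →ₐ[k] MonoidAlgebra k Λ ⊗[k] MonoidAlgebra k Λ) *
        (mat u).map (Algebra.TensorProduct.includeRight : _ →ₐ[k] MonoidAlgebra k Λ ⊗[k] MonoidAlgebra k Λ) := by
  rw [← mat_corep, convMul_incl]

omit [Fintype Λ] [DecidableEq Λ] in
/-- Orthogonality for a homomorphism into the base change of the general linear group. -/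
theorem matK_comul (u : sp K (MonoidAlgebra K Λ) ⟶ Red.bc (base k K) (Gk k m)) [IsMonHom u] :
    (matK u : Matrix (Fin m) (Fin m) (MonoidAlgebra K Λ)).map (Bialgebra.comulAlgHom K (MonoidAlgebra K Λ)) =
      (matK u : Matrix (Fin m) (Fin m) (MonoidAlgebra K Λ)).map
          (Algebra.TensorProduct.includeLeft : _ →ₐ[K] MonoidAlgebra K Λ ⊗[K] MonoidAlgebra K Λ) *
        (matK u : Matrix (Fin m) (Fin m) (MonoidAlgebra K Λ)).map
          (Algebra.TensorProduct.includeRight : _ →ₐ[K] MonoidAlgebra K Λ ⊗[K] MonoidAlgebra K Λ) := by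
  rw [← matK_comp, ← matK_comp, ← matK_comp, ← Units.val_mul, ← map_mul, ← MonObj.mul_comp]
  congr 3
  rw [← convMul_incl]
  exact map_mul (Spec.mapMulEquiv (R := K) (S := MonoidAlgebra K Λ) (T := MonoidAlgebra K Λ ⊗[K] MonoidAlgebra K Λ))
    (toConv _) (toConv _)

omit [Fintype Λ] [DecidableEq Λ] in
theorem matK_counit (u : sp K (MonoidAlgebra K Λ) ⟶ Red.bc (base k K) (Gk k m)) [IsMonHom u] :
    (matK u : Matrix (Fin m) (Fin m) (MonoidAlgebra K Λ)).map (Bialgebra.counitAlgHom K (MonoidAlgebra K Λ)) = 1 := by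
  rw [← matK_comp, show pt (Bialgebra.counitAlgHom K (MonoidAlgebra K Λ)) = (1 : sp K K ⟶ sp K (MonoidAlgebra K Λ)) from ?_,
    MonObj.one_comp, map_one, Units.val_one]
  exact (congrArg pt (AlgHom.ext fun x => by simp)).trans
    (map_one (Spec.mapMulEquiv (R := K) (S := MonoidAlgebra K Λ) (T := K)))

theorem exists_conj_of_ext (M N : Matrix (Fin m) (Fin m) (MonoidAlgebra k Λ))
    (hM : M.map (Bialgebra.comulAlgHom k (MonoidAlgebra k Λ)) =
      M.map (Algebra.TensorProduct.includeLeft : _ →ₐ[k] MonoidAlgebra k Λ ⊗[k] MonoidAlgebra k Λ) *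
        M.map (Algebra.TensorProduct.includeRight : _ →ₐ[k] MonoidAlgebra k Λ ⊗[k] MonoidAlgebra k Λ))
    (hM' : M.map (Bialgebra.counitAlgHom k (MonoidAlgebra k Λ)) = 1)
    (hN : N.map (Bialgebra.comulAlgHom k (MonoidAlgebra k Λ)) =
      N.map (Algebra.TensorProduct.includeLeft : _ →ₐ[k] MonoidAlgebra k Λ ⊗[k] MonoidAlgebra k Λ) *
        N.map (Algebra.TensorProduct.includeRight : _ →ₐ[k] MonoidAlgebra k Λ ⊗[k] MonoidAlgebra k Λ))
    (hN' : N.map (Bialgebra.counitAlgHom k (MonoidAlgebra k Λ)) = 1)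
    (α : Λ ≃* Λ) (G : Matrix.GeneralLinearGroup (Fin m) K)
    (h : cst (G : Matrix (Fin m) (Fin m) K) * M.map (extH k K Λ) =
      (N.map ((extH k K Λ).comp (MonoidAlgebra.mapDomainAlgHom k k α.toMonoidHom))) * cst (G : Matrix (Fin m) (Fin m) K)) :
    ∃ g : Matrix.GeneralLinearGroup (Fin m) k, cst (g : Matrix (Fin m) (Fin m) k) * M =
      N.map (MonoidAlgebra.mapDomainAlgHom k k α.toMonoidHom) * cst (g : Matrix (Fin m) (Fin m) k) := by
  classical
  have hcN : ∀ c, cmat (N.map (MonoidAlgebra.mapDomainAlgHom k k α.toMonoidHom)) c = cmat N (α.symm c) := fun c => by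
    ext i j
    simp only [cmat, Matrix.map_apply, MonoidAlgebra.mapDomainAlgHom_apply, MonoidAlgebra.coeff_mapDomain]
    conv_lhs => rw [← α.apply_symm_apply c]
    exact Finsupp.mapDomain_apply α.injective _ _
  obtain ⟨g₁, w₁, h₁⟩ := exists_diag (cmat M) (cmat_mul M hM) (sum_cmat M hM')
  obtain ⟨g₂, w₂, h₂⟩ := exists_diag (fun c => cmat N (α.symm c))
    (fun c d => by simp [cmat_mul N hN, α.symm.injective.eq_iff])
    (by rw [← sum_cmat N hN']; exact Equiv.sum_comp α.symm.toEquiv (cmat N))
  let f := algebraMap k K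
  have hP : ∀ c, (G : Matrix (Fin m) (Fin m) K) * (cmat M c).map f = (cmat N (α.symm c)).map f * (G : Matrix (Fin m) (Fin m) K) := by
    intro c
    have h' := congrArg (fun Z => cmat Z c) h
    simp only [cmat_cst_mul, cmat_mul_cst] at h'
    have e1 : cmat (M.map (extH k K Λ)) c = (cmat M c).map f := by
      ext i j; exact ext_coeff _ _
    have e2 : cmat (N.map ((extH k K Λ).comp (MonoidAlgebra.mapDomainAlgHom k k α.toMonoidHom))) c =
        (cmat (N.map (MonoidAlgebra.mapDomainAlgHom k k α.toMonoidHom)) c).map f := by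
      ext i j; exact ext_coeff _ _
    rwa [e1, e2, hcN] at h'
  let g₁K := Matrix.GeneralLinearGroup.map f g₁
  let g₂K := Matrix.GeneralLinearGroup.map f g₂
  have eg₁ : (g₁K : Matrix (Fin m) (Fin m) K) = (g₁ : Matrix (Fin m) (Fin m) k).map f := rfl
  have eg₂ : (g₂K : Matrix (Fin m) (Fin m) K) = (g₂ : Matrix (Fin m) (Fin m) k).map f := rfl
  have e₁ : ∀ c, (g₁K : Matrix (Fin m) (Fin m) K) * (cmat M c).map f =
      (Matrix.diagonal fun i => if w₁ i = c then (1 : K) else 0) * (g₁K : Matrix (Fin m) (Fin m) K) := fun c => by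
    have := congrArg (fun Z : Matrix (Fin m) (Fin m) k => Z.map f) (h₁ c)
    rw [eg₁]
    simpa [Matrix.map_mul, Matrix.diagonal_map, apply_ite f] using this
  have e₂ : ∀ c, (g₂K : Matrix (Fin m) (Fin m) K) * (cmat N (α.symm c)).map f =
      (Matrix.diagonal fun i => if w₂ i = c then (1 : K) else 0) * (g₂K : Matrix (Fin m) (Fin m) K) := fun c => by
    have := congrArg (fun Z : Matrix (Fin m) (Fin m) k => Z.map f) (h₂ c)
    rw [eg₂]
    simpa [Matrix.map_mul, Matrix.diagonal_map, apply_ite f] using this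
  obtain ⟨π, hπ⟩ := exists_perm w₁ w₂ (g₂K * G * g₁K⁻¹) fun c => by
    simp only [Units.val_mul]
    calc _ = (g₂K : Matrix (Fin m) (Fin m) K) * (G : Matrix (Fin m) (Fin m) K) *
          (((g₁K⁻¹ : Matrix.GeneralLinearGroup (Fin m) K) : Matrix (Fin m) (Fin m) K) *
            ((g₁K : Matrix (Fin m) (Fin m) K) * (cmat M c).map f) *
            ((g₁K⁻¹ : Matrix.GeneralLinearGroup (Fin m) K) : Matrix (Fin m) (Fin m) K)) := by
          rw [e₁]; simp [mul_assoc]
      _ = (g₂K : Matrix (Fin m) (Fin m) K) * ((G : Matrix (Fin m) (Fin m) K) * (cmat M c).map f) *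
            ((g₁K⁻¹ : Matrix.GeneralLinearGroup (Fin m) K) : Matrix (Fin m) (Fin m) K) := by
          simp [← mul_assoc]
      _ = _ := by rw [hP, ← mul_assoc (g₂K : Matrix (Fin m) (Fin m) K), e₂]; simp [mul_assoc]
  obtain ⟨Gπ, hGπ⟩ := exists_perm_conj (F := k) w₁ w₂ π hπ
  refine ⟨g₂⁻¹ * Gπ * g₁, cmat_ext fun c => ?_⟩
  rw [cmat_cst_mul, cmat_mul_cst, hcN]
  simp only [Units.val_mul]
  calc _ = ((g₂⁻¹ : Matrix.GeneralLinearGroup (Fin m) k) : Matrix (Fin m) (Fin m) k) *
        ((Gπ : Matrix (Fin m) (Fin m) k) * (Matrix.diagonal fun i => if w₁ i = c then (1 : k) else 0)) *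
        (g₁ : Matrix (Fin m) (Fin m) k) := by rw [mul_assoc, h₁]; simp [mul_assoc]
    _ = ((g₂⁻¹ : Matrix.GeneralLinearGroup (Fin m) k) : Matrix (Fin m) (Fin m) k) *
        ((g₂ : Matrix (Fin m) (Fin m) k) * cmat N (α.symm c)) *
        ((g₂⁻¹ : Matrix.GeneralLinearGroup (Fin m) k) : Matrix (Fin m) (Fin m) k) *
        ((Gπ : Matrix (Fin m) (Fin m) k) * (g₁ : Matrix (Fin m) (Fin m) k)) := by
        rw [hGπ, h₂]; simp [mul_assoc]
    _ = _ := by simp [mul_assoc]

theorem mem_of_sum_mul {C : Type u} [CommRing C] [Algebra K C] (S : Subalgebra K C)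
    (A : Matrix (Fin m) (Fin m) C) (g h : Matrix (Fin m) (Fin m) K) (hA : ∀ i j, A i j ∈ S) (i j : Fin m) :
    (g.map (algebraMap K C) * A * h.map (algebraMap K C)) i j ∈ S := by
  simp only [Matrix.mul_apply, Matrix.map_apply, Finset.sum_mul]
  exact Subalgebra.sum_mem _ fun a _ => Subalgebra.sum_mem _ fun b _ =>
    S.mul_mem (S.mul_mem (S.algebraMap_mem _) (hA _ _)) (S.algebraMap_mem _)

omit [Fintype Λ] [DecidableEq Λ] in
/-- A group algebra is not generated by the characters of a proper subgroup. -/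
theorem eq_top_of_single_mem {Ξ : Type} [CommGroup Ξ] (α : Ξ →* Λ)
    (h : ∀ c, MonoidAlgebra.single c (1 : K) ∈ (MonoidAlgebra.mapDomainAlgHom K K α).range) :
    Function.Surjective α := fun c => by
  classical
  by_contra hc
  obtain ⟨x, hx⟩ := h c
  have h' := congrArg (fun z : MonoidAlgebra K Λ => z.coeff c) hx
  have h0 : (MonoidAlgebra.mapDomainAlgHom K K α x).coeff c = 0 := by
    rw [MonoidAlgebra.mapDomainAlgHom_apply, MonoidAlgebra.coeff_mapDomain]
    exact Finsupp.mapDomain_of_notMem_range _ _ fun ⟨a, ha⟩ => hc ⟨a, ha⟩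
  change (MonoidAlgebra.mapDomainAlgHom K K α x).coeff c = _ at h'
  rw [MonoidAlgebra.coeff_single, Finsupp.single_eq_same] at h'
  exact one_ne_zero (h'.symm.trans h0)

omit [DecidableEq Λ] in
/-- An isomorphism carrying one subgroup to a conjugate of another comes from an automorphism of the characters. -/
theorem exists_alpha (u v : sp k (MonoidAlgebra k Λ) ⟶ Gk k m) [IsMonHom u] [IsMonHom v]
    (hu : Function.Surjective (toAlg u)) (hv : Function.Surjective (toAlg v))
    (ψ : MonoidAlgebra k Λ →ₐ[k] MonoidAlgebra K Λ) (G : Matrix.GeneralLinearGroup (Fin m) K)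
    (h : cst (G : Matrix (Fin m) (Fin m) K) * (mat u).map (extH k K Λ) =
      (mat v).map ψ * cst (G : Matrix (Fin m) (Fin m) K)) :
    ∃ α : Λ ≃* Λ, ψ = (extH k K Λ).comp (MonoidAlgebra.mapDomainAlgHom k k α.toMonoidHom) := by
  classical
  have hC : ∀ {C : Type u} [CommRing C] [Algebra k C] [Algebra K C] [IsScalarTower k K C]
      (f : MonoidAlgebra K Λ →ₐ[K] C),
      (G : Matrix (Fin m) (Fin m) K).map (algebraMap K C) * (mat u).map ((f.restrictScalars k).comp (extH k K Λ)) =
        (mat v).map ((f.restrictScalars k).comp ψ) * (G : Matrix (Fin m) (Fin m) K).map (algebraMap K C) := by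
    intro C _ _ _ _ f
    have h' := congrArg (fun Z : Matrix (Fin m) (Fin m) (MonoidAlgebra K Λ) => Z.map f) h
    simp only [Matrix.map_mul, cst, Matrix.map_map] at h'
    have e : (f : MonoidAlgebra K Λ → C) ∘ algebraMap K (MonoidAlgebra K Λ) = algebraMap K C :=
      funext f.commutes
    rw [e] at h'
    exact h'
  have hcancel : ∀ {C : Type u} [CommRing C] [Algebra K C] (A B : Matrix (Fin m) (Fin m) C),
      A * (G : Matrix (Fin m) (Fin m) K).map (algebraMap K C) = B * (G : Matrix (Fin m) (Fin m) K).map (algebraMap K C) →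
        A = B := fun A B hAB =>
    (Matrix.GeneralLinearGroup.map (algebraMap K _) G).isUnit.mul_right_cancel hAB
  let iL : MonoidAlgebra K Λ →ₐ[K] MonoidAlgebra K Λ ⊗[K] MonoidAlgebra K Λ := Algebra.TensorProduct.includeLeft
  let iR : MonoidAlgebra K Λ →ₐ[K] MonoidAlgebra K Λ ⊗[K] MonoidAlgebra K Λ := Algebra.TensorProduct.includeRight
  let ΔK := Bialgebra.comulAlgHom K (MonoidAlgebra K Λ)
  let conv : (MonoidAlgebra k Λ →ₐ[k] MonoidAlgebra K Λ) →
      (MonoidAlgebra k Λ →ₐ[k] MonoidAlgebra K Λ ⊗[K] MonoidAlgebra K Λ) := fun φ =>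
    (toConv ((iL.restrictScalars k).comp φ) * toConv ((iR.restrictScalars k).comp φ) :
      WithConv (MonoidAlgebra k Λ →ₐ[k] MonoidAlgebra K Λ ⊗[K] MonoidAlgebra K Λ)).ofConv
  have hconv : ∀ φ (c : Λ), conv φ (MonoidAlgebra.single c 1) =
      φ (MonoidAlgebra.single c 1) ⊗ₜ φ (MonoidAlgebra.single c 1) := fun φ c => by
    show (toConv ((iL.restrictScalars k).comp φ) * toConv ((iR.restrictScalars k).comp φ) :
      WithConv (MonoidAlgebra k Λ →ₐ[k] MonoidAlgebra K Λ ⊗[K] MonoidAlgebra K Λ)) _ = _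
    rw [AlgHom.convMul_apply, (MonoidAlgebra.isGroupLikeElem_single_one c).comul_eq_tmul_self]
    simp [iL, iR]
  have hι : (ΔK.restrictScalars k).comp (extH k K Λ) = conv (extH k K Λ) :=
    MonoidAlgebra.algHom_ext (fun c => by
      rw [hconv, AlgHom.comp_apply, AlgHom.restrictScalars_apply, Bialgebra.comulAlgHom_apply, ext_single, map_one,
        (MonoidAlgebra.isGroupLikeElem_single_one c).comul_eq_tmul_self]) (Subsingleton.elim _ _)
  have hcomul : (ΔK.restrictScalars k).comp ψ = conv ψ := by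
    have hmat : (mat v).map ((ΔK.restrictScalars k).comp ψ) = (mat v).map (conv ψ) := by
      refine hcancel _ _ ?_
      rw [← hC ΔK, hι]
      simp only [conv]
      rw [mat_corep, mat_corep, ← mul_assoc, hC iL, mul_assoc, hC iR, ← mul_assoc]
    have h2 : ((ΔK.restrictScalars k).comp ψ).comp (toAlg v) = (conv ψ).comp (toAlg v) := algMat_injective hmat
    exact AlgHom.ext fun x => by obtain ⟨y, rfl⟩ := hv x; exact AlgHom.congr_fun h2 y
  let εK := Bialgebra.counitAlgHom K (MonoidAlgebra K Λ)
  let εk : MonoidAlgebra k Λ →ₐ[k] K := (Algebra.ofId k K).comp (Bialgebra.counitAlgHom k (MonoidAlgebra k Λ))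
  have hιε : (εK.restrictScalars k).comp (extH k K Λ) = εk :=
    MonoidAlgebra.algHom_ext (fun c => by simp [εK, εk, ext_single]) (Subsingleton.elim _ _)
  have hone : ∀ w : sp k (MonoidAlgebra k Λ) ⟶ Gk k m, IsMonHom w → (mat w).map εk = 1 := fun w _ => by
    show (mat w).map ((Algebra.ofId k K) ∘ (Bialgebra.counitAlgHom k (MonoidAlgebra k Λ))) = 1
    rw [← Matrix.map_map, mat_counit]
    exact Matrix.map_one _ (map_zero _) (map_one _)
  have hcounit : (εK.restrictScalars k).comp ψ = εk := by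
    have hmat : (mat v).map ((εK.restrictScalars k).comp ψ) = (mat v).map εk := by
      refine hcancel _ _ ?_
      rw [← hC εK, hιε, hone u inferInstance, hone v inferInstance, mul_one, one_mul]
    have h2 : ((εK.restrictScalars k).comp ψ).comp (toAlg v) = εk.comp (toAlg v) := algMat_injective hmat
    exact AlgHom.ext fun x => by obtain ⟨y, rfl⟩ := hv x; exact AlgHom.congr_fun h2 y
  have hgl : ∀ c, IsGroupLikeElem K (ψ (MonoidAlgebra.single c 1)) := fun c =>
    ⟨by
      have := AlgHom.congr_fun hcounit (MonoidAlgebra.single c 1)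
      simpa [εK, εk] using this,
     by
      have := AlgHom.congr_fun hcomul (MonoidAlgebra.single c 1)
      rw [hconv] at this
      exact this⟩
  choose α hα using fun c => MonoidAlgebra.isGroupLikeElem_iff_mem_range_single_one.1 (hgl c)
  have hsingle := MonoidAlgebra.single_left_injective (M := Λ) (one_ne_zero (α := K))
  let αh : Λ →* Λ :=
    { toFun := α
      map_one' := hsingle (by
        show MonoidAlgebra.single (α 1) (1 : K) = MonoidAlgebra.single 1 1
        rw [show MonoidAlgebra.single (α 1) (1 : K) = _ from hα 1, ← MonoidAlgebra.one_def, map_one,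
          MonoidAlgebra.one_def])
      map_mul' := fun a b => hsingle (by
        show MonoidAlgebra.single (α (a * b)) (1 : K) = MonoidAlgebra.single (α a * α b) 1
        rw [← mul_one (1 : K), ← MonoidAlgebra.single_mul_single, mul_one,
          show MonoidAlgebra.single (α (a * b)) (1 : K) = _ from hα _, show MonoidAlgebra.single (α a) (1 : K) = _ from hα _,
          show MonoidAlgebra.single (α b) (1 : K) = _ from hα _, ← map_mul, MonoidAlgebra.single_mul_single, mul_one]) }
  have hψ : ψ = (extH k K Λ).comp (MonoidAlgebra.mapDomainAlgHom k k αh) :=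
    MonoidAlgebra.algHom_ext (fun c => by
      rw [AlgHom.comp_apply, MonoidAlgebra.mapDomainAlgHom_apply, MonoidAlgebra.mapDomain_single, ext_single, map_one]
      exact (hα c).symm) (Subsingleton.elim _ _)
  let R := (MonoidAlgebra.mapDomainAlgHom K K αh).range
  have hψR : ∀ x, ψ x ∈ R := fun x => by
    rw [hψ]
    induction x using MonoidAlgebra.induction_linear with
    | zero => rw [map_zero]; exact R.zero_mem
    | add a b ha hb => rw [map_add]; exact R.add_mem ha hb
    | single c r => exact ⟨MonoidAlgebra.single c (algebraMap k K r), by simp [ext_single]⟩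
  let S : Subalgebra k (GLn m k) := (R.restrictScalars k).comap ((extH k K Λ).comp (toAlg u))
  have hS : S = ⊤ := by
    let Gi : Matrix (Fin m) (Fin m) K := ((G⁻¹ : Matrix.GeneralLinearGroup (Fin m) K) : Matrix (Fin m) (Fin m) K)
    have hA : (mat u).map (extH k K Λ) = cst Gi * (mat v).map ψ * cst (G : Matrix (Fin m) (Fin m) K) := by
      rw [mul_assoc, ← h, ← mul_assoc]
      have e : cst Gi * cst (G : Matrix (Fin m) (Fin m) K) = (1 : Matrix (Fin m) (Fin m) (MonoidAlgebra K Λ)) := by
        rw [cst, cst, ← Matrix.map_mul, ← Units.val_mul, inv_mul_cancel, Units.val_one,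
          Matrix.map_one _ (map_zero _) (map_one _)]
      rw [e, one_mul]
    refine gln_induction (fun i j => ?_) ?_
    · show ((mat u).map (extH k K Λ)) i j ∈ R
      rw [hA]
      exact mem_of_sum_mul R _ Gi _ (fun a b => hψR _) i j
    · show extH k K Λ (toAlg u GLn.Dinv) ∈ R
      have e1 : ((mat u).map (extH k K Λ)).det = ((mat v).map ψ).det := by
        have hd := congrArg Matrix.det h
        rw [Matrix.det_mul, Matrix.det_mul, mul_comm] at hd
        exact ((Matrix.isUnit_iff_isUnit_det _).1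
          (Matrix.GeneralLinearGroup.map (algebraMap K _) G).isUnit).mul_right_cancel hd
      rw [show extH k K Λ (toAlg u GLn.Dinv) = ψ (toAlg v GLn.Dinv) from
        left_inv_eq_right_inv (a := ((mat v).map ψ).det) (by
          rw [mul_comm, ← e1]
          exact det_algMat ((extH k K Λ).comp (toAlg u))) (det_algMat (ψ.comp (toAlg v)))]
      exact hψR _
  have hsurj : Function.Surjective αh := eq_top_of_single_mem αh fun c => by
    obtain ⟨y, hy⟩ := hu (MonoidAlgebra.single c 1)
    have : y ∈ S := hS.symm ▸ Algebra.mem_top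
    have h3 : extH k K Λ (toAlg u y) ∈ R := this
    rwa [hy, ext_single, map_one] at h3
  exact ⟨MulEquiv.ofBijective αh ⟨Finite.injective_iff_surjective.2 hsurj, hsurj⟩, hψ⟩

end Groth.Agent.DualCyc
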