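import Groth.Agent.DualCyc.Forms
import Groth.Prelude.Def_AGF

/-!
# Conjugacy and descent of diagonalisable finite subgroups of the general linear group
-/

set_option autoImplicit false
set_option linter.style.haveILetI false
set_option backward.isDefEq.respectTransparency.types false
set_option synthInstance.maxHeartbeats 400000
set_option maxHeartbeats 1200000

universe u

open CategoryTheory Limits MonoidalCategory CartesianMonoidalCategory AlgebraicGeometry TensorProduct WithConv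
open scoped CategoryTheory.Obj MonObj GrpObj

noncomputable section

namespace Groth.Agent.DualCyc

open CoactBr CoordGrp Groth.Agent

variable {k : Type u} [Field k] {K : Type u} [Field K] [Algebra k K] {m : ℕ}

theorem surjective_toAlg {A B : Type u} [CommRing A] [Bialgebra k A] [CommRing B] [Algebra k B]
    (x : sp k B ⟶ sp k A) (h : IsClosedImmersion x.left) : Function.Surjective (toAlg x) := by
  rw [← pt_toAlg x, pt_left] at h
  haveI : IsClosedImmersion (Spec.map (CommRingCat.ofHom (toAlg x).toRingHom)) := h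
  exact (RingHom.surjective_respectsIso.arrow_mk_iso_iff
    (arrowIsoΓSpecOfIsAffine (CommRingCat.ofHom (toAlg x).toRingHom))).2
    (IsClosedImmersion.isAffine_surjective_of_isAffine (Spec.map (CommRingCat.ofHom (toAlg x).toRingHom))).2

/-- A group isomorphism with a diagonalisable group, as a homomorphism of affine points. -/
theorem exists_spIso {R : Type u} [CommRing R] {Λ₀ : Type} [AddCommGroup Λ₀] (σ : Over (Spec (CommRingCat.of R)))
    [GrpObj σ] (hσ : Red.IsSplitTorusWith Λ₀ σ) :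
    ∃ e : σ ≅ sp R (MonoidAlgebra R (Multiplicative Λ₀)), IsMonHom e.hom ∧ IsMonHom e.inv := by
  obtain ⟨d⟩ := MTBridge.nonempty_DS_iso R Λ₀
  let i := hσ.some ≪≫ d
  exact ⟨⟨i.hom.hom.hom, i.inv.hom.hom, congrArg (fun f => f.hom.hom) i.hom_inv_id,
    congrArg (fun f => f.hom.hom) i.inv_hom_id⟩, i.hom.hom.isMonHom_hom, i.inv.hom.isMonHom_hom⟩

theorem isClosedImmersion_comp_iso {S : Scheme.{u}} {X Y Z : Over S} (e : X ≅ Y) (f : Y ⟶ Z)
    (h : IsClosedImmersion f.left) : IsClosedImmersion (e.hom ≫ f).left := by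
  rw [Over.comp_left]
  haveI : IsIso e.hom.left := inferInstanceAs (IsIso ((Over.forget S).map e.hom))
  exact MorphismProperty.comp_mem _ _ _ inferInstance h

/-- The constant matrix of a point after change of algebra. -/
theorem matHom_toUnit {B : Type u} [CommRing B] [Algebra k B] (g₀ : sp k k ⟶ Gk k m)
    (g : 𝟙_ (Over (Spec (CommRingCat.of k))) ⟶ Gk k m) (hg : toUnit (sp k k) ≫ g = g₀) :
    (matHom (toUnit (sp k B) ≫ g) : Matrix (Fin m) (Fin m) B) =
      (matHom g₀ : Matrix (Fin m) (Fin m) k).map (algebraMap k B) := by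
  rw [show toUnit (sp k B) ≫ g = pt (Algebra.ofId k B) ≫ g₀ by
    rw [← hg, ← Category.assoc, toUnit_unique (pt (Algebra.ofId k B) ≫ toUnit (sp k k)) (toUnit _)],
    coe_matHom, mat_comp]
  rfl

theorem isIso_toUnit_sp (R : Type u) [CommRing R] : IsIso (toUnit (sp R R)) := by
  haveI h1 : IsIso (sp R R).hom := by
    show IsIso (Spec.map (CommRingCat.ofHom (algebraMap R R)))
    rw [Algebra.algebraMap_self, CommRingCat.ofHom_id, Spec.map_id]
    infer_instance
  haveI : IsIso (toUnit (sp R R)).left := by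
    have h : (toUnit (sp R R)).left ≫ (𝟙_ (Over (Spec (CommRingCat.of R)))).hom = (sp R R).hom := Over.w _
    rw [show (toUnit (sp R R)).left = (sp R R).hom from (Category.comp_id _).symm.trans h]
    exact h1
  haveI : IsIso ((Over.forget _).map (toUnit (sp R R))) := inferInstanceAs (IsIso (toUnit (sp R R)).left)
  exact isIso_of_reflects_iso _ (Over.forget _)

/-- The constant matrix of a point of the base change. -/
theorem exists_matK_toUnit (g : 𝟙_ (Over (Spec (CommRingCat.of K))) ⟶ Red.bc (base k K) (Gk k m)) :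
    ∃ G : Matrix.GeneralLinearGroup (Fin m) K, ∀ (B : Type u) [CommRing B] [Algebra k B] [Algebra K B]
      [IsScalarTower k K B], (matK (toUnit (sp K B) ≫ g) : Matrix (Fin m) (Fin m) B) =
        (G : Matrix (Fin m) (Fin m) K).map (algebraMap K B) := by
  refine ⟨matK (toUnit (sp K K) ≫ g), fun B _ _ _ _ => ?_⟩
  rw [show toUnit (sp K B) ≫ g = pt (Algebra.ofId K B) ≫ toUnit (sp K K) ≫ g by
    rw [← Category.assoc, toUnit_unique (pt (Algebra.ofId K B) ≫ toUnit (sp K K)) (toUnit _)], matK_comp]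
  rfl

/-- Subgroups conjugate over an extension are conjugate. -/
theorem exists_conjBy {Λ₀ : Type} [AddCommGroup Λ₀] [Finite Λ₀] (σ τ : Over (Spec (CommRingCat.of k)))
    [GrpObj σ] [GrpObj τ] (i : σ ⟶ Gk k m) (j : τ ⟶ Gk k m) [IsMonHom i] [IsMonHom j]
    (hi : IsClosedImmersion i.left) (hj : IsClosedImmersion j.left)
    (hσ : Red.IsSplitTorusWith Λ₀ σ) (hτ : Red.IsSplitTorusWith Λ₀ τ)
    (g : 𝟙_ (Over (Spec (CommRingCat.of K))) ⟶ Red.bc (base k K) (Gk k m))
    (φ : Red.bc (base k K) σ ≅ Red.bc (base k K) τ)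
    (h : AGF.conjBy g ((Over.pullback (base k K)).map i) = φ.hom ≫ (Over.pullback (base k K)).map j) :
    ∃ (g : 𝟙_ (Over (Spec (CommRingCat.of k))) ⟶ Gk k m) (φ : σ ≅ τ), AGF.conjBy g i = φ.hom ≫ j := by
  classical
  haveI : Fintype (Multiplicative Λ₀) := Fintype.ofFinite _
  obtain ⟨eσ, _, hσi⟩ := exists_spIso σ hσ
  obtain ⟨eτ, _, hτi⟩ := exists_spIso τ hτ
  haveI := hσi; haveI := hτi
  let u := eσ.inv ≫ i
  let v := eτ.inv ≫ j
  haveI : IsMonHom u := inferInstanceAs (IsMonHom (eσ.inv ≫ i))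
  haveI : IsMonHom v := inferInstanceAs (IsMonHom (eτ.inv ≫ j))
  have hu := surjective_toAlg u (isClosedImmersion_comp_iso eσ.symm i hi)
  have hv := surjective_toAlg v (isClosedImmersion_comp_iso eτ.symm j hj)
  let y : sp K (MonoidAlgebra K (Multiplicative Λ₀)) ⟶ Red.bc (base k K) σ :=
    raise (pt (extH k K (Multiplicative Λ₀)) ≫ eσ.inv)
  let z : sp k (MonoidAlgebra K (Multiplicative Λ₀)) ⟶ sp k (MonoidAlgebra k (Multiplicative Λ₀)) :=
    lower (y ≫ φ.hom) ≫ eτ.hom
  let ψ := toAlg z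
  obtain ⟨G, hG⟩ := exists_matK_toUnit g
  have h1 : y ≫ AGF.conjBy g ((Over.pullback (base k K)).map i) =
      (y ≫ φ.hom) ≫ (Over.pullback (base k K)).map j := by rw [h, Category.assoc]
  rw [AGF.conjBy, MonObj.comp_mul, MonObj.comp_mul, GrpObj.comp_inv, ← Category.assoc y (toUnit _) g,
    toUnit_unique (y ≫ toUnit _) (toUnit _), mul_inv_eq_iff_eq_mul] at h1
  have h2 := congrArg (fun x => (matK x : Matrix (Fin m) (Fin m) (MonoidAlgebra K (Multiplicative Λ₀)))) h1
  simp only [map_mul, Units.val_mul, hG] at h2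
  rw [coe_matK, coe_matK, lower_comp, lower_comp] at h2
  have eu : mat (lower y ≫ i) = (mat u).map (extH k K (Multiplicative Λ₀)) := by
    rw [← mat_comp, lower_raise, Category.assoc]
  have ev : mat (lower (y ≫ φ.hom) ≫ j) = (mat v).map ψ := by
    rw [← mat_comp, pt_toAlg, show z ≫ v = lower (y ≫ φ.hom) ≫ j by simp [z, v]]
  rw [eu, ev] at h2
  obtain ⟨α, hα⟩ := exists_alpha u v hu hv ψ G h2
  rw [hα] at h2
  obtain ⟨g₀, hg₀⟩ := exists_conj_of_ext (mat u) (mat v) (mat_comul u) (mat_counit u) (mat_comul v) (mat_counit v)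
    α G h2
  obtain ⟨x, hx⟩ := exists_matHom_eq (k := k) (B := k) g₀
  haveI := isIso_toUnit_sp k
  let g' : 𝟙_ (Over (Spec (CommRingCat.of k))) ⟶ Gk k m := inv (toUnit (sp k k)) ≫ x
  let αk : MonoidAlgebra k (Multiplicative Λ₀) ≃ₐ[k] MonoidAlgebra k (Multiplicative Λ₀) :=
    AlgEquiv.ofAlgHom (MonoidAlgebra.mapDomainAlgHom k k α.toMonoidHom)
      (MonoidAlgebra.mapDomainAlgHom k k α.symm.toMonoidHom)
      (MonoidAlgebra.algHom_ext (fun c => by simp) (Subsingleton.elim _ _))
      (MonoidAlgebra.algHom_ext (fun c => by simp) (Subsingleton.elim _ _))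
  let a : sp k (MonoidAlgebra k (Multiplicative Λ₀)) ≅ sp k (MonoidAlgebra k (Multiplicative Λ₀)) :=
    { hom := pt αk.toAlgHom
      inv := pt αk.symm.toAlgHom
      hom_inv_id := by rw [← pt_comp, AlgEquiv.comp_symm, pt_id]
      inv_hom_id := by rw [← pt_comp, AlgEquiv.symm_comp, pt_id] }
  refine ⟨g', eσ ≪≫ a ≪≫ eτ.symm, ?_⟩
  rw [← cancel_epi eσ.inv]
  simp only [Iso.trans_hom, Iso.symm_hom, Category.assoc, Iso.inv_hom_id_assoc]
  rw [AGF.conjBy, MonObj.comp_mul, MonObj.comp_mul, GrpObj.comp_inv, ← Category.assoc eσ.inv (toUnit _) g',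
    toUnit_unique (eσ.inv ≫ toUnit _) (toUnit _), mul_inv_eq_iff_eq_mul]
  apply matHom_injective
  apply Units.ext
  rw [map_mul, map_mul, Units.val_mul, Units.val_mul,
    matHom_toUnit x g' (IsIso.hom_inv_id_assoc _ _), hx, coe_matHom, coe_matHom]
  show cst (g₀ : Matrix (Fin m) (Fin m) k) * mat u = mat (pt αk.toAlgHom ≫ v) * cst (g₀ : Matrix (Fin m) (Fin m) k)
  rw [mat_comp]
  exact hg₀

/-- Diagonalisable subgroups over an extension are conjugate to subgroups defined over the base. -/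
theorem exists_descent {Λ₀ : Type} [AddCommGroup Λ₀] [Finite Λ₀] (σ' : Over (Spec (CommRingCat.of K)))
    [GrpObj σ'] (i' : σ' ⟶ Red.bc (base k K) (Gk k m)) [IsMonHom i'] (hi' : IsClosedImmersion i'.left)
    (hσ' : Red.IsSplitTorusWith Λ₀ σ') :
    ∃ (σ : Over (Spec (CommRingCat.of k))) (_ : GrpObj σ) (i : σ ⟶ Gk k m) (_ : IsMonHom i),
      IsClosedImmersion i.left ∧ Red.IsSplitTorusWith Λ₀ σ ∧
      ∃ (g : 𝟙_ (Over (Spec (CommRingCat.of K))) ⟶ Red.bc (base k K) (Gk k m))
        (φ : σ' ≅ Red.bc (base k K) σ),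
        AGF.conjBy g i' = φ.hom ≫ (Over.pullback (base k K)).map i := by
  classical
  haveI : Fintype (Multiplicative Λ₀) := Fintype.ofFinite _
  obtain ⟨e', _, he'i⟩ := exists_spIso σ' hσ'
  haveI := he'i
  let u := e'.inv ≫ i'
  haveI : IsMonHom u := inferInstanceAs (IsMonHom (e'.inv ≫ i'))
  haveI : IsClosedImmersion u.left := isClosedImmersion_comp_iso e'.symm i' hi'
  obtain ⟨w, G, hsurj, hG⟩ := exists_standard u
  have hD : Red.IsSplitTorusWith Λ₀ (Red.DS (Spec (CommRingCat.of k)) Λ₀) := ⟨Iso.refl _⟩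
  obtain ⟨eD, hDh, _⟩ := exists_spIso _ hD
  haveI := hDh
  obtain ⟨uw, huw, huw'⟩ := exists_diag_hom (k := k) w
  haveI := huw
  refine ⟨Red.DS (Spec (CommRingCat.of k)) Λ₀, inferInstance, eD.hom ≫ uw, inferInstance, ?_, hD, ?_⟩
  · refine isClosedImmersion_comp_iso eD uw ?_
    rw [huw', pt_left]
    exact IsClosedImmersion.spec_of_surjective _ hsurj
  obtain ⟨x, hx⟩ := exists_matK_eq (k := k) (K := K) (B := K) G
  haveI := isIso_toUnit_sp K
  let g' : 𝟙_ (Over (Spec (CommRingCat.of K))) ⟶ Red.bc (base k K) (Gk k m) := inv (toUnit (sp K K)) ≫ x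
  haveI : IsIso (raise (K := K) (pt (extH k K (Multiplicative Λ₀)))) := isIso_raise_ext
  refine ⟨g', e' ≪≫ asIso (raise (K := K) (pt (extH k K (Multiplicative Λ₀)))) ≪≫
    (Over.pullback (base k K)).mapIso eD.symm, ?_⟩
  rw [← cancel_epi e'.inv]
  simp only [Iso.trans_hom, asIso_hom, Functor.mapIso_hom, Iso.symm_hom, Category.assoc, Iso.inv_hom_id_assoc,
    ← Functor.map_comp]
  rw [AGF.conjBy, MonObj.comp_mul, MonObj.comp_mul, GrpObj.comp_inv, ← Category.assoc e'.inv (toUnit _) g',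
    toUnit_unique (e'.inv ≫ toUnit _) (toUnit _), mul_inv_eq_iff_eq_mul, ← raise_comp]
  apply matK_injective
  apply Units.ext
  have hg' : (matK (toUnit (sp K (MonoidAlgebra K (Multiplicative Λ₀))) ≫ g') :
      Matrix (Fin m) (Fin m) (MonoidAlgebra K (Multiplicative Λ₀))) = cst (G : Matrix (Fin m) (Fin m) K) := by
    rw [(((congrArg (· ≫ g') (toUnit_unique (toUnit (sp K (MonoidAlgebra K (Multiplicative Λ₀))))
        (pt (Algebra.ofId K _) ≫ toUnit (sp K K)))).trans (Category.assoc _ _ _)).trans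
        (congrArg (pt (Algebra.ofId K _) ≫ ·) (IsIso.hom_inv_id_assoc (toUnit (sp K K)) x))), matK_comp, hx]
    rfl
  rw [map_mul, map_mul, Units.val_mul, Units.val_mul, hg']
  refine hG.trans ?_
  congr 1
  rw [coe_matK, lower_raise, mat_comp, huw', mat_pt, algMat_phiW]
  ext a b
  by_cases hab : a = b
  · subst hab; simp [diagW, ext_single]
  · simp [diagW, hab]

end Groth.Agent.DualCyc
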